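import Cfsg.Agent.J4.Gen

/-! Named elements of the stabiliser of a duad and their matrices on three modules. -/

set_option autoImplicit false
set_option maxRecDepth 1000000
set_option maxHeartbeats 0

namespace CF.Tr
open CF.Comp CF.Dce

noncomputable def wX : List (List ℕ) := [[(nat_lit 1), (nat_lit 1), (nat_lit 6), (nat_lit 2), (nat_lit 2), (nat_lit 5), (nat_lit 2), (nat_lit 3)],
  [(nat_lit 7), (nat_lit 1), (nat_lit 6), (nat_lit 1), (nat_lit 4), (nat_lit 5), (nat_lit 2), (nat_lit 5), (nat_lit 1), (nat_lit 1), (nat_lit 5)],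
  [(nat_lit 5), (nat_lit 5), (nat_lit 2), (nat_lit 6), (nat_lit 2), (nat_lit 6), (nat_lit 1), (nat_lit 4), (nat_lit 5), (nat_lit 2)]]
noncomputable def nX_0 : Net := (Net.cons (nat_lit 1) (nat_lit 4214864) (Net.cons (nat_lit 2) (nat_lit 3276800) (Net.cons (nat_lit 4) (nat_lit 2816) (Net.cons (nat_lit 8) (nat_lit 13) (Net.cons (nat_lit 16) (nat_lit 143) (Net.cons (nat_lit 8) (nat_lit 151) (Net.cons (nat_lit 4) (nat_lit 920578) (Net.cons (nat_lit 2) (nat_lit 3342610) (Net.cons (nat_lit 1) (nat_lit 4522324) Net.nil)))))))))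
noncomputable def nX_1 : Net := (Net.cons (nat_lit 1) (nat_lit 4259856) (Net.cons (nat_lit 2) (nat_lit 1245472) (Net.cons (nat_lit 4) (nat_lit 66816) (Net.cons (nat_lit 8) (nat_lit 64) (Net.cons (nat_lit 16) (nat_lit 237) (Net.cons (nat_lit 8) (nat_lit 126) (Net.cons (nat_lit 4) (nat_lit 462592) (Net.cons (nat_lit 2) (nat_lit 3346720) (Net.cons (nat_lit 1) (nat_lit 5505360) Net.nil)))))))))
noncomputable def nX_2 : Net := (Net.cons (nat_lit 1) (nat_lit 1393924) (Net.cons (nat_lit 2) (nat_lit 69920) (Net.cons (nat_lit 4) (nat_lit 265216) (Net.cons (nat_lit 8) (nat_lit 72) (Net.cons (nat_lit 16) (nat_lit 104) (Net.cons (nat_lit 8) (nat_lit 236) (Net.cons (nat_lit 4) (nat_lit 199170) (Net.cons (nat_lit 2) (nat_lit 139568) (Net.cons (nat_lit 1) (nat_lit 328708) Net.nil)))))))))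
noncomputable def nX : List Net := [nX_0, nX_1, nX_2]
noncomputable def wA : List (List ℕ) := [[(nat_lit 5), (nat_lit 1), (nat_lit 6), (nat_lit 1), (nat_lit 4), (nat_lit 5), (nat_lit 1), (nat_lit 3), (nat_lit 5)],
  [(nat_lit 1), (nat_lit 5), (nat_lit 5), (nat_lit 1), (nat_lit 1), (nat_lit 6), (nat_lit 1), (nat_lit 1), (nat_lit 5)],
  [(nat_lit 3), (nat_lit 5), (nat_lit 3), (nat_lit 1), (nat_lit 6), (nat_lit 2), (nat_lit 2), (nat_lit 6), (nat_lit 1), (nat_lit 1)],
  [(nat_lit 4), (nat_lit 6), (nat_lit 2), (nat_lit 3), (nat_lit 5), (nat_lit 1), (nat_lit 1), (nat_lit 5), (nat_lit 2), (nat_lit 4)]]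
noncomputable def wN : List (List ℕ) := [[(nat_lit 1)],
  [(nat_lit 3)],
  [(nat_lit 5)],
  [(nat_lit 1), (nat_lit 5), (nat_lit 3), (nat_lit 2), (nat_lit 4), (nat_lit 6), (nat_lit 2), (nat_lit 6), (nat_lit 1), (nat_lit 1), (nat_lit 1)],
  [(nat_lit 1), (nat_lit 6), (nat_lit 2), (nat_lit 3), (nat_lit 5), (nat_lit 3), (nat_lit 1), (nat_lit 5), (nat_lit 1), (nat_lit 1)],
  [(nat_lit 2), (nat_lit 5), (nat_lit 2), (nat_lit 5), (nat_lit 4), (nat_lit 5), (nat_lit 4), (nat_lit 1), (nat_lit 6), (nat_lit 1)],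
  [(nat_lit 6), (nat_lit 3), (nat_lit 1), (nat_lit 6), (nat_lit 2), (nat_lit 4), (nat_lit 5), (nat_lit 2), (nat_lit 6), (nat_lit 2), (nat_lit 2)],
  [(nat_lit 4), (nat_lit 1), (nat_lit 6), (nat_lit 2), (nat_lit 3), (nat_lit 5), (nat_lit 3), (nat_lit 1), (nat_lit 5), (nat_lit 1), (nat_lit 1), (nat_lit 3)],
  [(nat_lit 1), (nat_lit 5), (nat_lit 3), (nat_lit 1), (nat_lit 5), (nat_lit 5), (nat_lit 1), (nat_lit 4), (nat_lit 5), (nat_lit 2)],
  [(nat_lit 6), (nat_lit 4), (nat_lit 2), (nat_lit 5), (nat_lit 2), (nat_lit 6), (nat_lit 1), (nat_lit 5), (nat_lit 5), (nat_lit 3), (nat_lit 2)],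
  [(nat_lit 2), (nat_lit 6), (nat_lit 1), (nat_lit 5), (nat_lit 4), (nat_lit 1), (nat_lit 5), (nat_lit 1), (nat_lit 1)],
  [(nat_lit 3), (nat_lit 1), (nat_lit 6), (nat_lit 4), (nat_lit 1), (nat_lit 6), (nat_lit 2), (nat_lit 4), (nat_lit 6), (nat_lit 1), (nat_lit 3)],
  [(nat_lit 1), (nat_lit 5), (nat_lit 1), (nat_lit 6), (nat_lit 1), (nat_lit 3), (nat_lit 1), (nat_lit 6), (nat_lit 1), (nat_lit 4), (nat_lit 6)],
  [(nat_lit 1), (nat_lit 1), (nat_lit 3), (nat_lit 1), (nat_lit 5), (nat_lit 2), (nat_lit 5), (nat_lit 1), (nat_lit 3), (nat_lit 1), (nat_lit 5)],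
  [(nat_lit 4), (nat_lit 5), (nat_lit 2), (nat_lit 4), (nat_lit 5), (nat_lit 1), (nat_lit 6), (nat_lit 3), (nat_lit 1), (nat_lit 4)],
  [(nat_lit 3), (nat_lit 3), (nat_lit 3), (nat_lit 3), (nat_lit 3)],
  [(nat_lit 6), (nat_lit 3), (nat_lit 1), (nat_lit 6), (nat_lit 2), (nat_lit 5), (nat_lit 1), (nat_lit 5), (nat_lit 3)]]
noncomputable def nN_0 : Net := (Net.cons (nat_lit 1) (nat_lit 4214864) (Net.cons (nat_lit 2) (nat_lit 3276800) (Net.cons (nat_lit 4) (nat_lit 2816) (Net.cons (nat_lit 8) (nat_lit 13) (Net.cons (nat_lit 16) (nat_lit 143) (Net.cons (nat_lit 8) (nat_lit 151) (Net.cons (nat_lit 4) (nat_lit 920578) (Net.cons (nat_lit 2) (nat_lit 3342610) (Net.cons (nat_lit 1) (nat_lit 4522324) Net.nil)))))))))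
noncomputable def nN_1 : Net := (Net.cons (nat_lit 1) (nat_lit 4259856) (Net.cons (nat_lit 2) (nat_lit 1245472) (Net.cons (nat_lit 4) (nat_lit 66816) (Net.cons (nat_lit 8) (nat_lit 64) (Net.cons (nat_lit 16) (nat_lit 237) (Net.cons (nat_lit 8) (nat_lit 126) (Net.cons (nat_lit 4) (nat_lit 462592) (Net.cons (nat_lit 2) (nat_lit 3346720) (Net.cons (nat_lit 1) (nat_lit 5505360) Net.nil)))))))))
noncomputable def nN_2 : Net := (Net.cons (nat_lit 1) (nat_lit 1393924) (Net.cons (nat_lit 2) (nat_lit 69920) (Net.cons (nat_lit 4) (nat_lit 265216) (Net.cons (nat_lit 8) (nat_lit 72) (Net.cons (nat_lit 16) (nat_lit 104) (Net.cons (nat_lit 8) (nat_lit 236) (Net.cons (nat_lit 4) (nat_lit 199170) (Net.cons (nat_lit 2) (nat_lit 139568) (Net.cons (nat_lit 1) (nat_lit 328708) Net.nil)))))))))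
noncomputable def nN_3 : Net := (Net.cons (nat_lit 1) (nat_lit 1376576) (Net.cons (nat_lit 2) (nat_lit 2101808) (Net.cons (nat_lit 4) (nat_lit 788992) (Net.cons (nat_lit 8) (nat_lit 193) (Net.cons (nat_lit 16) (nat_lit 219) (Net.cons (nat_lit 8) (nat_lit 225) (Net.cons (nat_lit 4) (nat_lit 788996) (Net.cons (nat_lit 2) (nat_lit 2101808) (Net.cons (nat_lit 1) (nat_lit 1376576) Net.nil)))))))))
noncomputable def nN_4 : Net := (Net.cons (nat_lit 1) (nat_lit 70656) (Net.cons (nat_lit 2) (nat_lit 139264) (Net.cons (nat_lit 4) (nat_lit 524288) (Net.cons (nat_lit 8) (nat_lit 128) (Net.cons (nat_lit 16) (nat_lit 130) (Net.cons (nat_lit 8) (nat_lit 132) (Net.cons (nat_lit 4) (nat_lit 524296) (Net.cons (nat_lit 2) (nat_lit 204816) (Net.cons (nat_lit 1) (nat_lit 1119488) Net.nil)))))))))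
noncomputable def nN_5 : Net := (Net.cons (nat_lit 1) (nat_lit 328724) (Net.cons (nat_lit 2) (nat_lit 1118464) (Net.cons (nat_lit 4) (nat_lit 918528) (Net.cons (nat_lit 8) (nat_lit 67) (Net.cons (nat_lit 16) (nat_lit 231) (Net.cons (nat_lit 8) (nat_lit 7) (Net.cons (nat_lit 4) (nat_lit 655364) (Net.cons (nat_lit 2) (nat_lit 1118466) (Net.cons (nat_lit 1) (nat_lit 1377556) Net.nil)))))))))
noncomputable def nN_6 : Net := (Net.cons (nat_lit 1) (nat_lit 1052944) (Net.cons (nat_lit 2) (nat_lit 131840) (Net.cons (nat_lit 4) (nat_lit 132096) (Net.cons (nat_lit 8) (nat_lit 34) (Net.cons (nat_lit 16) (nat_lit 46) (Net.cons (nat_lit 8) (nat_lit 74) (Net.cons (nat_lit 4) (nat_lit 67082) (Net.cons (nat_lit 2) (nat_lit 290) (Net.cons (nat_lit 1) (nat_lit 1052944) Net.nil)))))))))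
noncomputable def nN_7 : Net := (Net.cons (nat_lit 1) (nat_lit 4523008) (Net.cons (nat_lit 2) (nat_lit 2294032) (Net.cons (nat_lit 4) (nat_lit 256) (Net.cons (nat_lit 8) (nat_lit 38) (Net.cons (nat_lit 16) (nat_lit 38) (Net.cons (nat_lit 8) (nat_lit 54) (Net.cons (nat_lit 4) (nat_lit 268) (Net.cons (nat_lit 2) (nat_lit 2294032) (Net.cons (nat_lit 1) (nat_lit 5587968) Net.nil)))))))))
noncomputable def nN_8 : Net := (Net.cons (nat_lit 1) (nat_lit 1311744) (Net.cons (nat_lit 2) (nat_lit 66048) (Net.cons (nat_lit 4) (nat_lit 525824) (Net.cons (nat_lit 8) (nat_lit 17) (Net.cons (nat_lit 16) (nat_lit 145) (Net.cons (nat_lit 8) (nat_lit 121) (Net.cons (nat_lit 4) (nat_lit 722688) (Net.cons (nat_lit 2) (nat_lit 66048) (Net.cons (nat_lit 1) (nat_lit 1328128) Net.nil)))))))))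
noncomputable def nN_9 : Net := (Net.cons (nat_lit 1) (nat_lit 17488) (Net.cons (nat_lit 2) (nat_lit 3215360) (Net.cons (nat_lit 4) (nat_lit 524288) (Net.cons (nat_lit 8) (nat_lit 19) (Net.cons (nat_lit 16) (nat_lit 91) (Net.cons (nat_lit 8) (nat_lit 23) (Net.cons (nat_lit 4) (nat_lit 524288) (Net.cons (nat_lit 2) (nat_lit 3223584) (Net.cons (nat_lit 1) (nat_lit 17488) Net.nil)))))))))
noncomputable def nN_10 : Net := (Net.cons (nat_lit 1) (nat_lit 5243968) (Net.cons (nat_lit 2) (nat_lit 3342848) (Net.cons (nat_lit 4) (nat_lit 723712) (Net.cons (nat_lit 8) (nat_lit 146) (Net.cons (nat_lit 16) (nat_lit 219) (Net.cons (nat_lit 8) (nat_lit 178) (Net.cons (nat_lit 4) (nat_lit 723712) (Net.cons (nat_lit 2) (nat_lit 3342848) (Net.cons (nat_lit 1) (nat_lit 5260352) Net.nil)))))))))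
noncomputable def nN_11 : Net := (Net.cons (nat_lit 1) (nat_lit 4526080) (Net.cons (nat_lit 2) (nat_lit 13104) (Net.cons (nat_lit 4) (nat_lit 263168) (Net.cons (nat_lit 8) (nat_lit 64) (Net.cons (nat_lit 16) (nat_lit 216) (Net.cons (nat_lit 8) (nat_lit 152) (Net.cons (nat_lit 4) (nat_lit 329476) (Net.cons (nat_lit 2) (nat_lit 66080) (Net.cons (nat_lit 1) (nat_lit 4543504) Net.nil)))))))))
noncomputable def nN_12 : Net := (Net.cons (nat_lit 1) (nat_lit 5525760) (Net.cons (nat_lit 2) (nat_lit 4624) (Net.cons (nat_lit 4) (nat_lit 131328) (Net.cons (nat_lit 8) (nat_lit 16) (Net.cons (nat_lit 16) (nat_lit 188) (Net.cons (nat_lit 8) (nat_lit 136) (Net.cons (nat_lit 4) (nat_lit 591104) (Net.cons (nat_lit 2) (nat_lit 2228784) (Net.cons (nat_lit 1) (nat_lit 5329220) Net.nil)))))))))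
noncomputable def nN_13 : Net := (Net.cons (nat_lit 1) (nat_lit 69632) (Net.cons (nat_lit 2) (nat_lit 131328) (Net.cons (nat_lit 4) (nat_lit 262144) (Net.cons (nat_lit 8) (nat_lit 98) (Net.cons (nat_lit 16) (nat_lit 118) (Net.cons (nat_lit 8) (nat_lit 38) (Net.cons (nat_lit 4) (nat_lit 198152) (Net.cons (nat_lit 2) (nat_lit 768) (Net.cons (nat_lit 1) (nat_lit 86084) Net.nil)))))))))
noncomputable def nN_14 : Net := (Net.cons (nat_lit 1) (nat_lit 4472832) (Net.cons (nat_lit 2) (nat_lit 1114144) (Net.cons (nat_lit 4) (nat_lit 131072) (Net.cons (nat_lit 8) (nat_lit 129) (Net.cons (nat_lit 16) (nat_lit 237) (Net.cons (nat_lit 8) (nat_lit 145) (Net.cons (nat_lit 4) (nat_lit 394244) (Net.cons (nat_lit 2) (nat_lit 1114144) (Net.cons (nat_lit 1) (nat_lit 4538432) Net.nil)))))))))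
noncomputable def nN_15 : Net := (Net.cons (nat_lit 1) (nat_lit 5243200) (Net.cons (nat_lit 2) (nat_lit 2167328) (Net.cons (nat_lit 4) (nat_lit 331008) (Net.cons (nat_lit 8) (nat_lit 180) (Net.cons (nat_lit 16) (nat_lit 255) (Net.cons (nat_lit 8) (nat_lit 114) (Net.cons (nat_lit 4) (nat_lit 592128) (Net.cons (nat_lit 2) (nat_lit 3346451) (Net.cons (nat_lit 1) (nat_lit 4211988) Net.nil)))))))))
noncomputable def nN_16 : Net := (Net.cons (nat_lit 1) (nat_lit 69888) (Net.cons (nat_lit 2) (nat_lit 1188608) (Net.cons (nat_lit 4) (nat_lit 528128) (Net.cons (nat_lit 8) (nat_lit 4) (Net.cons (nat_lit 16) (nat_lit 228) (Net.cons (nat_lit 8) (nat_lit 120) (Net.cons (nat_lit 4) (nat_lit 854540) (Net.cons (nat_lit 2) (nat_lit 196626) (Net.cons (nat_lit 1) (nat_lit 17492) Net.nil)))))))))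
noncomputable def nN : List Net := [nN_0, nN_1, nN_2, nN_3, nN_4, nN_5, nN_6, nN_7, nN_8, nN_9, nN_10, nN_11, nN_12, nN_13, nN_14, nN_15, nN_16]
noncomputable def LX0 : List Nat := [(nat_lit 0x1001001001001001001001001001001),
  (nat_lit 0x1001ffa002002002002002002002002),
  (nat_lit 0x1000800800800800800800800800bff),
  (nat_lit 0x1000c0060030019ff3001800c006003),
  (nat_lit 0x1001f03f03e07e07c0fc0f81f81f03f),
  (nat_lit 0x1001fb1965246e17d0ec494d31bf54f),
  (nat_lit 0x1001ad0925f05f8923f41f49216b589)]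
noncomputable def LN0 : List Nat := [(nat_lit 0x1001001001001001001001001001001),
  (nat_lit 0x1001ffa002002002002002002002002),
  (nat_lit 0x1000800800800800800800800800bff),
  (nat_lit 0x1000c0060030019ff3001800c006003),
  (nat_lit 0x1001f03f03e07e07c0fc0f81f81f03f),
  (nat_lit 0x1001fb1965246e17d0ec494d31bf54f),
  (nat_lit 0x1001ad0925f05f8923f41f49216b589),
  (nat_lit 0x1000555f8d2e9094521296b3f1546fb),
  (nat_lit 0x1000555f8d2e9094521296b3f1546fb),
  (nat_lit 0x1000554b916a2e1450e852fc5d54540),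
  (nat_lit 0x1000554b916a2e1450e852fc5d54540),
  (nat_lit 0x100128033e9c2e0380e8f2c67c291ca),
  (nat_lit 0x100128033e9c2e0380e8f2c67c291ca),
  (nat_lit 0x100188972499b2098e987aba3089efb),
  (nat_lit 0x100188972499b2098e987aba3089efb),
  (nat_lit 0x100354588d45014106ffc55232550cc),
  (nat_lit 0x100354588d45014106ffc55232550cc),
  (nat_lit 0x1001228712b22b767855e7df7c23f37),
  (nat_lit 0x1001228712b22b767855e7df7c23f37),
  (nat_lit 0x100388dbd87a094102dfc3f84fdce73),
  (nat_lit 0x100388dbd87a094102dfc3f84fdce73),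
  (nat_lit 0x10015471752e3a1450b816b2e455414),
  (nat_lit 0x10015471752e3a1450b816b2e455414),
  (nat_lit 0x10013078a81054da99abbe245d640a9),
  (nat_lit 0x1000302db3e344fb9f4190155d65203),
  (nat_lit 0x10015468dd2ff66ddc3296ae2210104),
  (nat_lit 0x100298e065423a2011a932581cddd05),
  (nat_lit 0x100122a600dc08c32fc8235d44ff2bb),
  (nat_lit 0x1003c6203fe6c82d6572a985d51afd9),
  (nat_lit 0x100221433543329a89a91c289565532),
  (nat_lit 0x100221433543329a89a91c289565532),
  (nat_lit 0x10000100401004010040100401003ff),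
  (nat_lit 0x10000100401004010040100401003ff),
  (nat_lit 0x10014d7208b5b7e597415d439012d0f),
  (nat_lit 0x1000ea28be920772fc4a35643cbe752)]
noncomputable def LX1 : List Nat := [(nat_lit 0x1001001001001001001001001001001),
  (nat_lit 0x1001ffa002002002002002002002002),
  (nat_lit 0x1000800800800800800800800800bff),
  (nat_lit 0x1000c0060030019ff3001800c006003),
  (nat_lit 0x1001f03f03e07e07c0fc0f81f81f03f),
  (nat_lit 0x1001fb1965246e17d0ec494d31bf14f),
  (nat_lit 0x1001ad0925f05f8923f41f49216b189)]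
noncomputable def LN1 : List Nat := [(nat_lit 0x1001001001001001001001001001001),
  (nat_lit 0x1001ffa002002002002002002002002),
  (nat_lit 0x1000800800800800800800800800bff),
  (nat_lit 0x1000c0060030019ff3001800c006003),
  (nat_lit 0x1001f03f03e07e07c0fc0f81f81f03f),
  (nat_lit 0x1001fb1965246e17d0ec494d31bf14f),
  (nat_lit 0x1001ad0925f05f8923f41f49216b189),
  (nat_lit 0x1000551f852e9094521216a3f1542fb),
  (nat_lit 0x1000551f852e9094521216a3f1542fb),
  (nat_lit 0x1000550b916a2e1450e852ec5d54140),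
  (nat_lit 0x1000550b916a2e1450e852ec5d54140),
  (nat_lit 0x10012803369c2e0380e872c67c291ca),
  (nat_lit 0x10012803369c2e0380e872c67c291ca),
  (nat_lit 0x100188972498b2098a987aaa3089afb),
  (nat_lit 0x100188972498b2098a987aaa3089afb),
  (nat_lit 0x100154188544014102ff454230550cc),
  (nat_lit 0x100154188544014102ff454230550cc),
  (nat_lit 0x1001228712b22b56785567cf7c23b37),
  (nat_lit 0x1001228712b22b56785567cf7c23b37),
  (nat_lit 0x1001889bd07a094102df43e84ddca73),
  (nat_lit 0x1001889bd07a094102df43e84ddca73),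
  (nat_lit 0x10015431752e3a1450b816a2e455014),
  (nat_lit 0x10015431752e3a1450b816a2e455014),
  (nat_lit 0x10013038a01054da99ab3e245d640a9),
  (nat_lit 0x1000302db3e244db9b4110055d65203),
  (nat_lit 0x10015428d52ef64dd83216ae2010104),
  (nat_lit 0x100098a065423a0011a932481cdd905),
  (nat_lit 0x100122a600dc08c32bc8234d44ff2bb),
  (nat_lit 0x1001c62037e6c80d61722985d51abd9),
  (nat_lit 0x100021033542329a89a91c289565132),
  (nat_lit 0x100021033542329a89a91c289565132),
  (nat_lit 0x10000100401004010040100401003ff),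
  (nat_lit 0x10000100401004010040100401003ff),
  (nat_lit 0x10014d3200b4b7c593415d43901290f),
  (nat_lit 0x1000ea28b6920752f84a35643cbe352)]
noncomputable def LX2 : List Nat := [(nat_lit 0x1001001001001001001001001001001),
  (nat_lit 0x1001ffa002002002002002002002002),
  (nat_lit 0x1000800800800800800800800800bff),
  (nat_lit 0x1000c0060030019ff3001800c006003),
  (nat_lit 0x1001f03f03e07e07c0fc0f81f81f03f),
  (nat_lit 0x1001e535208c8f8543e26209594f1d1),
  (nat_lit 0x1000eb08c460951391520c4621ae1bb)]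
noncomputable def LN2 : List Nat := [(nat_lit 0x1001001001001001001001001001001),
  (nat_lit 0x1001ffa002002002002002002002002),
  (nat_lit 0x1000800800800800800800800800bff),
  (nat_lit 0x1000c0060030019ff3001800c006003),
  (nat_lit 0x1001f03f03e07e07c0fc0f81f81f03f),
  (nat_lit 0x1001e535208c8f8543e26209594f1d1),
  (nat_lit 0x1000eb08c460951391520c4621ae1bb),
  (nat_lit 0x1001001d8504100380104143700139f),
  (nat_lit 0x1001001d8504100380104143700139f),
  (nat_lit 0x10000118801004139040100231003ed),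
  (nat_lit 0x10000118801004139040100231003ed),
  (nat_lit 0x1000291222988493924232889128253),
  (nat_lit 0x1000291222988493924232889128253),
  (nat_lit 0x1001a210027c2609a0c836c3708b0ab),
  (nat_lit 0x1001a210027c2609a0c836c3708b0ab),
  (nat_lit 0x10010020641484955242504c08012f1),
  (nat_lit 0x10010020641484955242504c08012f1),
  (nat_lit 0x10002917a69c849f72423281f928013),
  (nat_lit 0x10002917a69c849f72423281f928013),
  (nat_lit 0x1001aa3526bcb28d629a7ac958ab2a7),
  (nat_lit 0x1001aa3526bcb28d629a7ac958ab2a7),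
  (nat_lit 0x10010008c1001013901001062001241),
  (nat_lit 0x10010008c1001013901001062001241),
  (nat_lit 0x10016404f3a8d10ba314180a5c65096),
  (nat_lit 0x10004c14f6b8d51fe304520b0d4d09d),
  (nat_lit 0x1000ad88c7b6541e89006a6260d08b9),
  (nat_lit 0x10014b81002e3717288c13e6201fae0),
  (nat_lit 0x1000990947805d802126234c68dd0f5),
  (nat_lit 0x1000061fc6209818d2302240816b07b),
  (nat_lit 0x10000fa987b620dbd8d342ed7c72b7e),
  (nat_lit 0x10000fa987b620dbd8d342ed7c72b7e),
  (nat_lit 0x10000100401004010040100401003ff),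
  (nat_lit 0x10000100401004010040100401003ff),
  (nat_lit 0x1000833ba030d503a8c80041f9820b2),
  (nat_lit 0x10010521d1a4750a699622c0540413a)]
/-- matrices of the three generators -/
noncomputable def LX (t : ℕ) : List ℕ := nth [] [LX0, LX1, LX2] t
/-- matrices of the named elements -/
noncomputable def LN (t : ℕ) : List ℕ := nth [] [LN0, LN1, LN2] t

end CF.Tr
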