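import Cfsg.Agent.Bt.Back

/-! Certificates for the facts on the stabiliser of a duad. -/

set_option autoImplicit false
set_option maxRecDepth 1000000
set_option maxHeartbeats 0

namespace CF.Tr
open CF.Comp

noncomputable def cN : List Lvl := [⟨(nat_lit 0), [[(nat_lit 1)],
  [(nat_lit 3)],
  [(nat_lit 5)]], (nat_lit 1)⟩,
  ⟨(nat_lit 1), [[(nat_lit 1)],
  [(nat_lit 5)]], (nat_lit 4)⟩,
  ⟨(nat_lit 2), [[(nat_lit 25)],
  [(nat_lit 6), (nat_lit 13)]], (nat_lit 5)⟩,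
  ⟨(nat_lit 3), [[(nat_lit 17)],
  [(nat_lit 26), (nat_lit 27)],
  [(nat_lit 32), (nat_lit 4), (nat_lit 1)]], (nat_lit 3)⟩,
  ⟨(nat_lit 4), [[(nat_lit 30), (nat_lit 28), (nat_lit 15)],
  [(nat_lit 20), (nat_lit 29), (nat_lit 19)],
  [(nat_lit 4), (nat_lit 30), (nat_lit 1), (nat_lit 4)]], (nat_lit 2)⟩,
  ⟨(nat_lit 5), [[(nat_lit 18), (nat_lit 34), (nat_lit 29), (nat_lit 19), (nat_lit 5)]], (nat_lit 2)⟩]
noncomputable def tZ : Bt.Tr := (.base (nat_lit 8388609) (.focus 0 (.sym [[1], [3], [5], [7], [9], [11]] (.cons [] 1 384 (.op 2 0 (.op 5 0 (.xor 1 0 (.focus 0 (.sym [[1], [3], [5], [7], [9]] (.cons [] 2 24 (.focus 1 (.xor 3 0 (.focus 0 (.op 4 1 (.xor 5 0 (.focus 0 (.sym [[1], [3], [5], [7]] (.cons [] 1 4 (.focus 5 (.focus 3 (.focus 1 (.xor 7 0 (.focus 0 (.op 4 1 (.xor 9 0 (.focus 0 (.sym [[1], [3]] (.cons [] 1 1 (.focus 2 (.cons [] 0 1 (.focus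 11 (.base (nat_lit 147488) (.focus 0 (.cons [] 0 1 .triv (.cons [2] 0 0 (.base (nat_lit 64) (.and 0 14 (.dead0 0))) .nil))))) .nil)) (.cons [5] 1 0 (.base (nat_lit 8241104) (.and 0 11 (.dead 0))) (.cons [3, 5] 1 0 (.base (nat_lit 8241104) (.and 0 11 (.dead 0))) .nil)))))))))))) (.cons [3] 1 0 (.focus 5 (.focus 3 (.focus 1 (.xor 7 0 (.focus 0 (.op 4 1 (.xor 9 0 (.focus 0 (.sym [[13]] (.cons [1] 2 0 (.focus 2 (.cons [3, 6, 3] 0 0 (.base (nat_lit 2097920) (.and 0 8 (.dead0 0))) .nil)) (.cons [5] 2 0 (.base (nat_lit 8241104) (.and 0 11 (.dead 0))) (.cons [4, 1] 2 0 (.base (nat_lit 8241104) (.and 0 11 (.dead 0))) (.cons [12, 3] 2 0 (.focus 2 (.cons [1] 0 0 (.base (nat_lit 2097920) (.and 0 12 (.dead0 0))) .nil)) .nil))))))))))))) .nil))))))))) .nil)))))) .nil))))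
noncomputable def tZK : List (List ℕ) := [[17], [24, 19, 15], [24, 19], [17, 24], [13], [21, 17, 11], [24]]
noncomputable def tZF : List (List ℕ) := [[], [1]]
noncomputable def tR_1 : Bt.Tr := (.focus 1 (.xor 5 0 (.focus 0 (.op 4 1 (.xor 7 0 (.focus 0 (.op 7 3 (.xor 9 0 (.focus 0 (.cons [] 0 1 (.focus 7 (.focus 5 (.focus 3 (.focus 1 (.xor 11 0 (.focus 0 (.op 4 1 (.xor 13 0 (.focus 0 (.op 7 3 (.xor 15 0 (.focus 0 (.base (nat_lit 8241104) (.focus 0 (.op 4 0 (.focus 0 (.op 7 1 (.focus 0 (.cons [] 0 1 (.focus 16 (.base (nat_lit 147488) (.focus 0 (.op 4 0 (.focus 0 (.cons [] 0 1 .triv .nil)))))) (.cons [5] 0 0 (.base (nat_lit 294976) (.and 0 22 (.dead0 0))) (.cons [6, 3] 0 0 (.base (nat_lit 294976) (.and 0 8 (.dead0 0))) (.cons [5, 3] 0 0 (.base (nat_lit 294976) (.and 0 8 (.dead0 0))) (.cons [6, 1] 0 0 (.base (nat_lit 5248) (.and 0 12 (.dead0 0)))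 (.cons [1, 6, 1] 0 0 (.base (nat_lit 294976) (.and 0 22 (.dead0 0))) .nil)))))))))))))))))))))))) (.cons [1] 0 0 (.focus 7 (.focus 5 (.focus 3 (.focus 1 (.xor 11 0 (.focus 0 (.op 4 1 (.xor 13 0 (.focus 0 (.op 7 3 (.xor 15 0 (.focus 0 (.base (nat_lit 8241104) (.focus 0 (.op 4 0 (.focus 0 (.op 7 1 (.focus 0 (.cons [] 0 0 (.base (nat_lit 294976) (.and 0 22 (.dead0 0))) (.cons [8, 5] 0 0 (.base (nat_lit 294976) (.and 0 14 (.dead0 0))) (.cons [6, 1] 0 0 (.base (nat_lit 294976) (.and 0 22 (.dead0 0))) (.cons [7, 1] 0 0 (.base (nat_lit 294976) (.and 0 22 (.dead0 0))) (.cons [1, 6, 1] 0 0 (.base (nat_lit 294976) (.and 0 22 (.dead0 0))) (.cons [3, 6, 3] 0 0 (.base (nat_lit 294976) (.and 0 22 (.dead0 0))) .nil)))))))))))))))))))))))) (.cons [5] 0 0 (.base (nat_lit 8241104) (.op 7 1 (.and 1 0 (.dead0 0)))) (.cons [3] 0 0 (.focus 7 (.focus 5 (.focus 3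 (.focus 1 (.xor 11 0 (.focus 0 (.op 4 1 (.xor 13 0 (.focus 0 (.op 7 3 (.xor 15 0 (.focus 0 (.base (nat_lit 8241104) (.focus 0 (.op 4 0 (.focus 0 (.op 7 1 (.focus 0 (.cons [6] 0 0 (.base (nat_lit 294976) (.and 0 8 (.dead0 0))) (.cons [7, 1] 0 0 (.base (nat_lit 294976) (.and 0 8 (.dead0 0))) (.cons [7, 3] 0 0 (.base (nat_lit 2097920) (.and 0 6 (.dead0 0))) (.cons [8, 5] 0 0 (.base (nat_lit 294976) (.and 0 22 (.dead0 0))) (.cons [5, 3] 0 0 (.base (nat_lit 294976) (.and 0 22 (.dead0 0))) (.cons [1, 6, 1] 0 0 (.base (nat_lit 5248) (.and 0 6 (.dead0 0))) .nil)))))))))))))))))))))))) (.cons [4, 1] 0 0 (.base (nat_lit 8241104) (.and 0 13 (.dead 0))) (.cons [11, 3] 0 0 (.base (nat_lit 8241104) (.op 7 1 (.and 1 0 (.dead0 0)))) (.cons [4, 6] 0 0 (.focus 7 (.focus 5 (.focus 3 (.focus 1 (.xor 11 0 (.focus 0 (.op 4 1 (.xor 13 0 (.focus 0 (.op 7 3 (.xor 15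 0 (.focus 0 (.base (nat_lit 8241104) (.focus 0 (.op 4 0 (.focus 0 (.op 7 1 (.focus 0 (.cons [5] 0 0 (.base (nat_lit 294976) (.and 0 22 (.dead0 0))) (.cons [3] 0 0 (.base (nat_lit 294976) (.and 0 14 (.dead0 0))) (.cons [6] 0 0 (.base (nat_lit 294976) (.and 0 22 (.dead0 0))) (.cons [3, 5] 0 0 (.base (nat_lit 294976) (.and 0 22 (.dead0 0))) (.cons [5, 1] 0 0 (.base (nat_lit 294976) (.and 0 22 (.dead0 0))) (.cons [3, 6, 3] 0 0 (.base (nat_lit 294976) (.and 0 22 (.dead0 0))) .nil)))))))))))))))))))))))) (.cons [6, 1] 0 0 (.base (nat_lit 8241104) (.and 0 13 (.dead 0))) (.cons [12, 3] 0 0 (.base (nat_lit 8241104) (.op 4 1 (.and 1 0 (.dead0 0)))) (.cons [5, 3] 0 0 (.focus 7 (.focus 5 (.focus 3 (.focus 1 (.xor 11 0 (.focus 0 (.op 4 1 (.xor 13 0 (.focus 0 (.op 7 3 (.xor 15 0 (.focus 0 (.base (nat_lit 8241104) (.focus 0 (.op 4 0 (.focus 0 (.op 7 1 (.focus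 0 (.cons [3] 0 0 (.base (nat_lit 294976) (.and 0 22 (.dead0 0))) (.cons [6] 0 0 (.base (nat_lit 294976) (.and 0 8 (.dead0 0))) (.cons [6, 3] 0 0 (.base (nat_lit 294976) (.and 0 22 (.dead0 0))) (.cons [8, 5] 0 0 (.base (nat_lit 294976) (.and 0 22 (.dead0 0))) (.cons [1, 5] 0 0 (.base (nat_lit 294976) (.and 0 22 (.dead0 0))) (.cons [7, 3] 0 0 (.base (nat_lit 294976) (.and 0 22 (.dead0 0))) .nil)))))))))))))))))))))))) (.cons [1, 3] 0 0 (.focus 7 (.focus 5 (.focus 3 (.focus 1 (.xor 11 0 (.focus 0 (.op 4 1 (.xor 13 0 (.focus 0 (.op 7 3 (.xor 15 0 (.focus 0 (.base (nat_lit 8241104) (.focus 0 (.op 4 0 (.focus 0 (.op 7 1 (.focus 0 (.cons [6] 0 0 (.base (nat_lit 294976) (.and 0 22 (.dead0 0))) (.cons [5] 0 0 (.base (nat_lit 294976) (.and 0 8 (.dead0 0))) (.cons [7, 1] 0 0 (.base (nat_lit 294976) (.and 0 22 (.dead0 0))) (.cons [5, 1] 0 0 (.base (nat_lit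 294976) (.and 0 22 (.dead0 0))) (.cons [5, 3] 0 0 (.base (nat_lit 294976) (.and 0 22 (.dead0 0))) (.cons [6, 1] 0 0 (.base (nat_lit 294976) (.and 0 22 (.dead0 0))) .nil)))))))))))))))))))))))) (.cons [4, 6, 1] 0 0 (.base (nat_lit 8241104) (.op 7 1 (.and 1 0 (.dead0 0)))) (.cons [1, 6, 3] 0 0 (.base (nat_lit 8241104) (.op 4 1 (.and 1 0 (.dead0 0)))) (.cons [5, 4, 1] 0 0 (.base (nat_lit 8241104) (.op 4 1 (.and 1 0 (.dead0 0)))) (.cons [6, 1, 3] 0 0 (.base (nat_lit 8241104) (.and 0 13 (.dead 0))) .nil))))))))))))))))))))))))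
noncomputable def tR : Bt.Tr := (.base (nat_lit 8388609) (.focus 0 (.sym [[1], [3], [5], [7]] (.cons [] 1 36 (.op 5 0 (.focus 0 (.op 2 0 (.xor 0 2 (.focus 0 (.base (nat_lit 8388606) (.focus 0 (.sym [[1], [3], [5]] (.cons [] 2 9 (.xor 3 4 (.focus 0 (.sym [[1], [3]] (.cons [] 2 1 tR_1 (.cons [9, 2] 2 0 (.focus 1 (.xor 5 0 (.focus 0 (.op 4 1 (.xor 7 0 (.focus 0 (.op 7 3 (.xor 9 0 (.focus 0 (.sym [[1]] (.cons [] 2 0 (.base (nat_lit 8241104) (.and 0 5 (.dead0 0))) (.cons [5] 2 0 (.base (nat_lit 8241104) (.and 0 13 (.dead 0))) (.cons [1] 2 0 (.base (nat_lit 8241104) (.and 0 3 (.dead0 0))) (.cons [5, 3] 2 0 (.base (nat_lit 8241104) (.and 0 13 (.dead 0))) (.cons [3, 1] 2 0 (.base (nat_lit 8241104) (.and 0 13 (.dead 0))) .nil))))))))))))))) (.cons [10, 2] 1 0 (.focus 1 (.xor 5 0 (.focus 0 (.op 4 1 (.xor 7 0 (.focus 0 (.op 7 3 (.xor 9 0 (.focus 0 (.sym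 [[9]] (.cons [] 2 0 (.base (nat_lit 8241104) (.and 0 13 (.dead 0))) (.cons [5] 2 0 (.base (nat_lit 8241104) (.and 0 3 (.dead0 0))) (.cons [1] 2 0 (.base (nat_lit 8241104) (.and 0 13 (.dead 0))) (.cons [6, 1] 2 0 (.base (nat_lit 8241104) (.and 0 13 (.dead 0))) (.cons [6, 3] 2 0 (.base (nat_lit 8241104) (.and 0 5 (.dead0 0))) .nil))))))))))))))) (.cons [4, 1] 1 0 (.focus 1 (.xor 5 0 (.focus 0 (.op 4 1 (.xor 7 0 (.focus 0 (.op 7 3 (.xor 9 0 (.focus 0 (.sym [[11]] (.cons [] 2 0 (.base (nat_lit 8241104) (.and 0 3 (.dead0 0))) (.cons [6] 2 0 (.base (nat_lit 8241104) (.and 0 13 (.dead 0))) (.cons [1] 2 0 (.base (nat_lit 8241104) (.and 0 13 (.dead 0))) (.cons [5] 2 0 (.base (nat_lit 8241104) (.and 0 5 (.dead0 0))) (.cons [4, 1] 2 0 (.base (nat_lit 8241104) (.and 0 13 (.dead 0))) .nil))))))))))))))) .nil))))))) .nil))))))))) .nil))))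
noncomputable def tRK : List (List ℕ) := [[26], [23], [13, 25], [21], [26, 23], [25, 23]]
noncomputable def tRF : List (List ℕ) := [[], [1]]
noncomputable def tS_1 : Bt.Tr := (.focus 1 (.xor 4 0 (.focus 0 (.op 4 1 (.xor 6 0 (.focus 0 (.op 7 3 (.xor 8 0 (.focus 0 (.op 4 3 (.xor 10 0 (.focus 0 (.op 7 3 (.xor 12 0 (.focus 0 (.cons [] 0 0 (.focus 11 (.op 7 0 (.op 7 0 (.focus 0 (.cons [5] 0 0 (.base (nat_lit 8241104) (.and 0 16 (.dead 0))) .nil))))) (.cons [2] 0 0 (.focus 11 (.op 7 0 (.op 7 0 (.focus 0 (.cons [5, 3] 0 0 (.base (nat_lit 8241104) (.and 0 16 (.dead 0))) .nil))))) (.cons [3] 0 0 (.focus 11 (.op 7 0 (.op 7 0 (.focus 0 (.cons [3, 5] 0 0 (.base (nat_lit 8241104) (.and 0 16 (.dead 0))) .nil))))) (.cons [4, 1] 0 0 (.focus 11 (.op 7 0 (.op 7 0 (.focus 0 (.cons [4, 1] 0 0 (.focus 14 (.focus 12 (.focus 10 (.focus 8 (.focus 6 (.focus 4 (.xor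 17 0 (.focus 0 (.xor 18 4 (.focus 0 (.xor 19 4 (.focus 0 (.op 4 6 (.xor 21 0 (.focus 0 (.op 7 5 (.xor 23 0 (.focus 0 (.base (nat_lit 8241104) (.focus 0 (.op 4 0 (.op 4 0 (.focus 0 (.op 7 2 (.focus 0 (.cons [] 0 0 (.base (nat_lit 294976) (.and 0 24 (.dead0 0))) (.cons [3] 0 0 (.base (nat_lit 294976) (.and 0 9 (.dead0 0))) (.cons [6, 1] 0 0 (.base (nat_lit 294976) (.and 0 24 (.dead0 0))) (.cons [5, 1] 0 0 (.base (nat_lit 5248) (.and 0 28 (.dead0 0))) (.cons [3, 6, 3] 0 0 (.base (nat_lit 294976) (.and 0 24 (.dead0 0))) .nil)))))))))))))))))))))))))))))) .nil))))) (.cons [8, 3] 0 0 (.focus 11 (.op 7 0 (.op 7 0 (.focus 0 (.cons [12, 3] 0 0 (.base (nat_lit 8241104) (.and 0 16 (.dead 0))) .nil))))) (.cons [9, 2] 0 0 (.focus 11 (.op 7 0 (.op 7 0 (.focus 0 (.cons [3] 0 0 (.base (nat_lit 8241104) (.and 0 16 (.dead 0))) .nil))))) (.cons [4, 2] 0 0 (.focus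 11 (.op 7 0 (.op 7 0 (.focus 0 (.cons [1] 0 0 (.focus 14 (.focus 12 (.focus 10 (.focus 8 (.focus 6 (.focus 4 (.xor 17 0 (.focus 0 (.xor 18 4 (.focus 0 (.xor 19 4 (.focus 0 (.op 4 6 (.xor 21 0 (.focus 0 (.op 7 5 (.xor 23 0 (.focus 0 (.base (nat_lit 8241104) (.focus 0 (.op 4 0 (.op 4 0 (.focus 0 (.op 7 2 (.focus 0 (.cons [5] 0 0 (.base (nat_lit 294976) (.and 0 9 (.dead0 0))) (.cons [1, 5] 0 0 (.base (nat_lit 294976) (.and 0 24 (.dead0 0))) (.cons [5, 1] 0 0 (.base (nat_lit 294976) (.and 0 28 (.dead0 0))) (.cons [3, 6, 3] 0 0 (.base (nat_lit 294976) (.and 0 24 (.dead0 0))) (.cons [1, 6, 1] 0 0 (.base (nat_lit 294976) (.and 0 9 (.dead0 0))) .nil)))))))))))))))))))))))))))))) .nil))))) (.cons [5, 2] 0 0 (.focus 11 (.op 7 0 (.op 7 0 (.focus 0 (.cons [6, 1] 0 0 (.base (nat_lit 8241104) (.and 0 10 (.dead0 0))) .nil))))) (.cons [7, 2] 0 0 (.focus 11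 (.op 7 0 (.op 7 0 (.focus 0 (.cons [5] 0 0 (.base (nat_lit 8241104) (.and 0 16 (.dead 0))) .nil))))) (.cons [1, 3] 0 0 (.focus 11 (.op 7 0 (.op 7 0 (.focus 0 (.cons [3, 1] 0 0 (.base (nat_lit 8241104) (.and 0 16 (.dead 0))) .nil))))) (.cons [1, 7, 2] 0 0 (.focus 11 (.op 7 0 (.op 7 0 (.focus 0 (.cons [12, 3] 0 0 (.base (nat_lit 8241104) (.and 0 16 (.dead 0))) .nil))))) (.cons [5, 3, 2] 0 0 (.focus 11 (.op 7 0 (.op 7 0 (.focus 0 (.cons [1, 4, 6] 0 0 (.base (nat_lit 8241104) (.and 0 16 (.dead 0))) .nil))))) (.cons [2, 3, 2] 0 0 (.focus 11 (.op 7 0 (.op 7 0 (.focus 0 (.cons [6, 3] 0 0 (.base (nat_lit 8241104) (.and 0 12 (.dead0 0))) .nil))))) (.cons [5, 4, 2] 0 0 (.focus 11 (.op 7 0 (.op 7 0 (.focus 0 (.cons [6, 1] 0 0 (.focus 14 (.focus 12 (.focus 10 (.focus 8 (.focus 6 (.focus 4 (.xor 17 0 (.focus 0 (.xor 18 4 (.focus 0 (.xor 19 4 (.focus 0 (.op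 4 6 (.xor 21 0 (.focus 0 (.op 7 5 (.xor 23 0 (.focus 0 (.base (nat_lit 8241104) (.focus 0 (.op 4 0 (.op 4 0 (.focus 0 (.op 7 2 (.focus 0 (.cons [] 0 0 (.base (nat_lit 294976) (.and 0 28 (.dead0 0))) (.cons [1] 0 0 (.base (nat_lit 294976) (.and 0 24 (.dead0 0))) (.cons [5, 1] 0 0 (.base (nat_lit 294976) (.and 0 7 (.dead0 0))) (.cons [8, 5] 0 0 (.base (nat_lit 294976) (.and 0 9 (.dead0 0))) (.cons [3, 6, 3] 0 0 (.base (nat_lit 294976) (.and 0 28 (.dead0 0))) .nil)))))))))))))))))))))))))))))) .nil))))) (.cons [1, 3, 2] 0 0 (.focus 11 (.op 7 0 (.op 7 0 (.focus 0 (.cons [3] 0 0 (.base (nat_lit 8241104) (.and 0 16 (.dead 0))) .nil))))) .nil))))))))))))))))))))))))))))))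
noncomputable def tS_2 : Bt.Tr := (.focus 1 (.xor 4 0 (.focus 0 (.op 4 1 (.xor 6 0 (.focus 0 (.op 7 3 (.xor 8 0 (.focus 0 (.op 4 3 (.xor 10 0 (.focus 0 (.op 7 3 (.xor 12 0 (.focus 0 (.cons [] 0 1 (.focus 11 (.op 7 0 (.op 7 0 (.focus 0 (.cons [] 0 1 (.focus 14 (.focus 12 (.focus 10 (.focus 8 (.focus 6 (.focus 4 (.xor 17 0 (.focus 0 (.xor 18 4 (.focus 0 (.xor 19 4 (.focus 0 (.op 4 6 (.xor 21 0 (.focus 0 (.op 7 5 (.xor 23 0 (.focus 0 (.base (nat_lit 8241104) (.focus 0 (.op 4 0 (.op 4 0 (.focus 0 (.op 7 2 (.focus 0 (.cons [] 0 1 (.focus 27 (.focus 28 (.base (nat_lit 147488) (.focus 0 (.cons [] 0 1 .triv .nil))))) (.cons [3] 0 0 (.base (nat_lit 294976) (.and 0 24 (.dead0 0))) (.cons [3, 5] 0 0 (.base (nat_lit 294976) (.and 0 9 (.dead0 0))) (.cons [5, 3] 0 0 (.base (nat_lit 294976) (.and 0 24 (.dead0 0))) (.cons [8, 5] 0 0 (.base (nat_lit 294976)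 (.and 0 24 (.dead0 0))) .nil)))))))))))))))))))))))))))))) .nil))))) (.cons [3] 0 0 (.focus 11 (.op 7 0 (.op 7 0 (.focus 0 (.cons [6, 1, 3] 0 0 (.base (nat_lit 8241104) (.and 0 16 (.dead 0))) .nil))))) (.cons [2] 0 0 (.focus 11 (.op 7 0 (.op 7 0 (.focus 0 (.cons [5] 0 0 (.base (nat_lit 8241104) (.and 0 16 (.dead 0))) .nil))))) (.cons [9, 2] 0 0 (.focus 11 (.op 7 0 (.op 7 0 (.focus 0 (.cons [6, 1] 0 0 (.focus 14 (.focus 12 (.focus 10 (.focus 8 (.focus 6 (.focus 4 (.xor 17 0 (.focus 0 (.xor 18 4 (.focus 0 (.xor 19 4 (.focus 0 (.op 4 6 (.xor 21 0 (.focus 0 (.op 7 5 (.xor 23 0 (.focus 0 (.base (nat_lit 8241104) (.focus 0 (.op 4 0 (.op 4 0 (.focus 0 (.op 7 2 (.focus 0 (.cons [] 0 0 (.base (nat_lit 294976) (.and 0 28 (.dead0 0))) (.cons [3] 0 0 (.base (nat_lit 294976) (.and 0 24 (.dead0 0))) (.cons [7, 3] 0 0 (.base (nat_lit 294976) (.and 0 9 (.dead0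 0))) (.cons [6, 3] 0 0 (.base (nat_lit 294976) (.and 0 24 (.dead0 0))) (.cons [1, 6, 1] 0 0 (.base (nat_lit 294976) (.and 0 9 (.dead0 0))) .nil)))))))))))))))))))))))))))))) .nil))))) (.cons [8, 3] 0 0 (.focus 11 (.op 7 0 (.op 7 0 (.focus 0 (.cons [] 0 0 (.base (nat_lit 8241104) (.and 0 16 (.dead 0))) .nil))))) (.cons [4, 1] 0 0 (.focus 11 (.op 7 0 (.op 7 0 (.focus 0 (.cons [6] 0 0 (.base (nat_lit 8241104) (.and 0 16 (.dead 0))) .nil))))) (.cons [4, 2] 0 0 (.focus 11 (.op 7 0 (.op 7 0 (.focus 0 (.cons [3, 1] 0 0 (.base (nat_lit 8241104) (.and 0 10 (.dead0 0))) .nil))))) (.cons [1, 3] 0 0 (.focus 11 (.op 7 0 (.op 7 0 (.focus 0 (.cons [] 0 0 (.base (nat_lit 8241104) (.and 0 16 (.dead 0))) .nil))))) (.cons [7, 2] 0 0 (.focus 11 (.op 7 0 (.op 7 0 (.focus 0 (.cons [5, 4, 1] 0 0 (.base (nat_lit 8241104) (.and 0 16 (.dead 0))) .nil))))) (.cons [5,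 2] 0 0 (.focus 11 (.op 7 0 (.op 7 0 (.focus 0 (.cons [6] 0 0 (.base (nat_lit 8241104) (.and 0 16 (.dead 0))) .nil))))) (.cons [1, 7, 2] 0 0 (.focus 11 (.op 7 0 (.op 7 0 (.focus 0 (.cons [1] 0 0 (.base (nat_lit 8241104) (.and 0 12 (.dead0 0))) .nil))))) (.cons [1, 3, 2] 0 0 (.focus 11 (.op 7 0 (.op 7 0 (.focus 0 (.cons [1] 0 0 (.base (nat_lit 8241104) (.and 0 16 (.dead 0))) .nil))))) (.cons [5, 3, 2] 0 0 (.focus 11 (.op 7 0 (.op 7 0 (.focus 0 (.cons [6, 1] 0 0 (.focus 14 (.focus 12 (.focus 10 (.focus 8 (.focus 6 (.focus 4 (.xor 17 0 (.focus 0 (.xor 18 4 (.focus 0 (.xor 19 4 (.focus 0 (.op 4 6 (.xor 21 0 (.focus 0 (.op 7 5 (.xor 23 0 (.focus 0 (.base (nat_lit 8241104) (.focus 0 (.op 4 0 (.op 4 0 (.focus 0 (.op 7 2 (.focus 0 (.cons [] 0 0 (.base (nat_lit 294976) (.and 0 28 (.dead0 0))) (.cons [7, 1] 0 0 (.base (nat_lit 294976) (.and 0 7 (.dead0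 0))) (.cons [5, 3] 0 0 (.base (nat_lit 294976) (.and 0 9 (.dead0 0))) (.cons [3, 6, 3] 0 0 (.base (nat_lit 294976) (.and 0 28 (.dead0 0))) (.cons [1, 6, 1] 0 0 (.base (nat_lit 294976) (.and 0 24 (.dead0 0))) .nil)))))))))))))))))))))))))))))) .nil))))) (.cons [5, 4, 2] 0 0 (.focus 11 (.op 7 0 (.op 7 0 (.focus 0 (.cons [6] 0 0 (.base (nat_lit 8241104) (.and 0 16 (.dead 0))) .nil))))) (.cons [2, 3, 2] 0 0 (.focus 11 (.op 7 0 (.op 7 0 (.focus 0 (.cons [1, 6, 3] 0 0 (.base (nat_lit 8241104) (.and 0 16 (.dead 0))) .nil))))) .nil))))))))))))))))))))))))))))))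
noncomputable def tS_3 : Bt.Tr := (.op 2 0 (.xor 0 1 (.focus 0 (.op 5 0 (.xor 2 0 (.focus 0 (.sym [[1]] (.cons [] 4 1 tS_2 (.cons [3] 4 0 tS_1 (.cons [2] 4 0 (.focus 1 (.xor 4 0 (.focus 0 (.op 4 1 (.xor 6 0 (.focus 0 (.op 7 3 (.xor 8 0 (.focus 0 (.op 4 3 (.xor 10 0 (.focus 0 (.op 7 3 (.xor 12 0 (.focus 0 (.cons [] 0 0 (.focus 11 (.op 7 0 (.op 7 0 (.focus 0 (.cons [11, 3] 0 0 (.base (nat_lit 8241104) (.and 0 16 (.dead 0))) .nil))))) (.cons [3] 0 0 (.focus 11 (.op 7 0 (.op 7 0 (.focus 0 (.cons [1] 0 0 (.base (nat_lit 8241104) (.and 0 16 (.dead 0))) .nil))))) (.cons [2] 0 0 (.focus 11 (.op 7 0 (.op 7 0 (.focus 0 (.cons [] 0 0 (.base (nat_lit 8241104) (.and 0 16 (.dead 0))) .nil))))) (.cons [1] 0 0 (.focus 11 (.op 7 0 (.op 7 0 (.focus 0 (.cons [3, 5] 0 0 (.base (nat_lit 8241104) (.and 0 16 (.dead 0))) .nil))))) (.cons [4, 2] 0 0 (.focus 11 (.op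 7 0 (.op 7 0 (.focus 0 (.cons [4, 6, 1] 0 0 (.base (nat_lit 8241104) (.and 0 16 (.dead 0))) .nil))))) (.cons [1, 3] 0 0 (.focus 11 (.op 7 0 (.op 7 0 (.focus 0 (.cons [6, 1, 3] 0 0 (.base (nat_lit 8241104) (.and 0 12 (.dead0 0))) .nil))))) (.cons [10, 2] 0 0 (.focus 11 (.op 7 0 (.op 7 0 (.focus 0 (.cons [3] 0 0 (.base (nat_lit 8241104) (.and 0 16 (.dead 0))) .nil))))) (.cons [4, 1] 0 0 (.focus 11 (.op 7 0 (.op 7 0 (.focus 0 (.cons [3] 0 0 (.base (nat_lit 8241104) (.and 0 16 (.dead 0))) .nil))))) (.cons [9, 2] 0 0 (.focus 11 (.op 7 0 (.op 7 0 (.focus 0 (.cons [4, 6, 1] 0 0 (.base (nat_lit 8241104) (.and 0 10 (.dead0 0))) .nil))))) (.cons [7, 2] 0 0 (.focus 11 (.op 7 0 (.op 7 0 (.focus 0 (.cons [5, 3] 0 0 (.base (nat_lit 8241104) (.and 0 16 (.dead 0))) .nil))))) (.cons [1, 10, 2] 0 0 (.focus 11 (.op 7 0 (.op 7 0 (.focus 0 (.cons [5, 3] 0 0 (.base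 (nat_lit 8241104) (.and 0 10 (.dead0 0))) .nil))))) (.cons [1, 7, 2] 0 0 (.focus 11 (.op 7 0 (.op 7 0 (.focus 0 (.cons [12, 3] 0 0 (.base (nat_lit 8241104) (.and 0 12 (.dead0 0))) .nil))))) (.cons [1, 3, 2] 0 0 (.focus 11 (.op 7 0 (.op 7 0 (.focus 0 (.cons [5] 0 0 (.base (nat_lit 8241104) (.and 0 16 (.dead 0))) .nil))))) (.cons [5, 4, 2] 0 0 (.focus 11 (.op 7 0 (.op 7 0 (.focus 0 (.cons [3] 0 0 (.base (nat_lit 8241104) (.and 0 16 (.dead 0))) .nil))))) (.cons [2, 3, 2] 0 0 (.focus 11 (.op 7 0 (.op 7 0 (.focus 0 (.cons [5, 4, 1] 0 0 (.base (nat_lit 8241104) (.and 0 16 (.dead 0))) .nil))))) .nil)))))))))))))))))))))))))))))) (.cons [8, 3] 4 0 (.focus 1 (.xor 4 0 (.focus 0 (.op 4 1 (.xor 6 0 (.focus 0 (.op 7 3 (.xor 8 0 (.focus 0 (.op 4 3 (.xor 10 0 (.focus 0 (.op 7 3 (.xor 12 0 (.focus 0 (.cons [] 0 0 (.focus 11 (.op 7 0 (.op 7 0 (.focus 0 (.cons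 [6, 1] 0 0 (.base (nat_lit 8241104) (.and 0 16 (.dead 0))) .nil))))) (.cons [1] 0 0 (.focus 11 (.op 7 0 (.op 7 0 (.focus 0 (.cons [3] 0 0 (.base (nat_lit 8241104) (.and 0 10 (.dead0 0))) .nil))))) (.cons [3] 0 0 (.focus 11 (.op 7 0 (.op 7 0 (.focus 0 (.cons [6] 0 0 (.base (nat_lit 8241104) (.and 0 16 (.dead 0))) .nil))))) (.cons [2] 0 0 (.focus 11 (.op 7 0 (.op 7 0 (.focus 0 (.cons [5, 3] 0 0 (.base (nat_lit 8241104) (.and 0 16 (.dead 0))) .nil))))) (.cons [4, 1] 0 0 (.focus 11 (.op 7 0 (.op 7 0 (.focus 0 (.cons [4, 6, 1] 0 0 (.base (nat_lit 8241104) (.and 0 16 (.dead 0))) .nil))))) (.cons [8, 3] 0 0 (.focus 11 (.op 7 0 (.op 7 0 (.focus 0 (.cons [1, 6, 3] 0 0 (.base (nat_lit 8241104) (.and 0 16 (.dead 0))) .nil))))) (.cons [7, 2] 0 0 (.focus 11 (.op 7 0 (.op 7 0 (.focus 0 (.cons [3, 1] 0 0 (.base (nat_lit 8241104) (.and 0 16 (.dead 0))) .nil)))))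 (.cons [3, 2] 0 0 (.focus 11 (.op 7 0 (.op 7 0 (.focus 0 (.cons [6] 0 0 (.base (nat_lit 8241104) (.and 0 16 (.dead 0))) .nil))))) (.cons [1, 3] 0 0 (.focus 11 (.op 7 0 (.op 7 0 (.focus 0 (.cons [6, 1, 3] 0 0 (.base (nat_lit 8241104) (.and 0 16 (.dead 0))) .nil))))) (.cons [5, 2] 0 0 (.focus 11 (.op 7 0 (.op 7 0 (.focus 0 (.cons [1, 4, 6] 0 0 (.base (nat_lit 8241104) (.and 0 16 (.dead 0))) .nil))))) (.cons [4, 2] 0 0 (.focus 11 (.op 7 0 (.op 7 0 (.focus 0 (.cons [4, 6, 1] 0 0 (.base (nat_lit 8241104) (.and 0 12 (.dead0 0))) .nil))))) (.cons [5, 4, 2] 0 0 (.focus 11 (.op 7 0 (.op 7 0 (.focus 0 (.cons [1] 0 0 (.base (nat_lit 8241104) (.and 0 12 (.dead0 0))) .nil))))) (.cons [5, 3, 2] 0 0 (.focus 11 (.op 7 0 (.op 7 0 (.focus 0 (.cons [6] 0 0 (.base (nat_lit 8241104) (.and 0 16 (.dead 0))) .nil))))) (.cons [2, 3, 2] 0 0 (.focus 11 (.op 7 0 (.op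 7 0 (.focus 0 (.cons [6, 3] 0 0 (.base (nat_lit 8241104) (.and 0 10 (.dead0 0))) .nil))))) (.cons [2, 7, 2] 0 0 (.focus 11 (.op 7 0 (.op 7 0 (.focus 0 (.cons [6, 3] 0 0 (.base (nat_lit 8241104) (.and 0 16 (.dead 0))) .nil))))) .nil)))))))))))))))))))))))))))))) .nil)))))))))))
noncomputable def tS : Bt.Tr := (.base (nat_lit 8388609) (.focus 0 (.sym [[1], [3]] (.cons [] 1 5 tS_3 .nil))))
noncomputable def tSK : List (List ℕ) := [[31, 3], [3]]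
noncomputable def tSF : List (List ℕ) := [[], [1]]
noncomputable def t7_1 : Bt.Tr := (.op 2 0 (.xor 0 1 (.focus 0 (.op 5 0 (.xor 2 0 (.focus 0 (.sym [[1]] (.cons [] 6 1 (.op 4 0 (.focus 0 (.cons [] 0 1 (.focus 3 (.xor 6 0 (.focus 0 (.xor 7 3 (.focus 0 (.op 4 2 (.xor 9 0 (.focus 0 (.op 7 6 (.xor 11 0 (.focus 0 (.op 4 3 (.xor 13 0 (.focus 0 (.op 7 3 (.xor 15 0 (.focus 0 (.op 4 3 (.xor 17 0 (.focus 0 (.cons [] 0 1 (.focus 6 (.cons [] 0 1 (.op 7 1 (.op 7 0 (.op 7 0 (.focus 0 (.cons [] 0 1 .triv .nil))))) .nil)) (.cons [1] 0 0 (.base (nat_lit 8241104) (.op 4 1 (.and 1 0 (.dead0 0)))) (.cons [3] 0 0 (.base (nat_lit 8241104) (.op 4 1 (.and 1 0 (.dead0 0)))) (.cons [11, 3] 0 0 (.base (nat_lit 8241104) (.op 4 1 (.and 1 0 (.dead0 0)))) (.cons [3, 5] 0 0 (.base (nat_lit 8241104) (.and 0 18 (.dead0 0))) (.cons [4, 6] 0 0 (.base (nat_lit 8241104) (.and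 0 11 (.dead0 0))) (.cons [6, 1] 0 0 (.base (nat_lit 8241104) (.and 0 9 (.dead0 0))) (.cons [12, 3] 0 0 (.base (nat_lit 8241104) (.op 4 1 (.and 1 0 (.dead0 0)))) (.cons [5, 3] 0 0 (.base (nat_lit 8241104) (.and 0 11 (.dead0 0))) (.cons [1, 3] 0 0 (.focus 6 (.cons [6] 0 0 (.base (nat_lit 294976) (.and 0 6 (.dead0 0))) .nil)) (.cons [4, 6, 1] 0 0 (.base (nat_lit 8241104) (.op 4 1 (.and 1 0 (.dead0 0)))) (.cons [5, 4, 1] 0 0 (.base (nat_lit 8241104) (.op 4 1 (.and 1 0 (.dead0 0)))) (.cons [1, 4, 6] 0 0 (.base (nat_lit 8241104) (.and 0 18 (.dead0 0))) (.cons [6, 1, 3] 0 0 (.base (nat_lit 8241104) (.and 0 9 (.dead0 0))) .nil)))))))))))))))))))))))))))))))))) .nil))) (.cons [3] 6 0 (.op 4 0 (.focus 0 (.cons [5, 2] 0 0 (.focus 3 (.xor 6 0 (.focus 0 (.xor 7 3 (.focus 0 (.op 4 2 (.xor 9 0 (.focus 0 (.op 7 6 (.xor 11 0 (.focus 0 (.op 4 3 (.xor 13 0 (.focus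 0 (.op 7 3 (.xor 15 0 (.focus 0 (.op 4 3 (.xor 17 0 (.focus 0 (.cons [] 0 0 (.base (nat_lit 8241104) (.and 0 18 (.dead0 0))) (.cons [1] 0 0 (.base (nat_lit 8241104) (.and 0 9 (.dead0 0))) (.cons [6] 0 0 (.base (nat_lit 8241104) (.and 0 7 (.dead0 0))) (.cons [5, 3] 0 0 (.base (nat_lit 8241104) (.and 0 11 (.dead0 0))) (.cons [4, 1] 0 0 (.base (nat_lit 8241104) (.and 0 3 (.dead0 0))) (.cons [6, 3] 0 0 (.base (nat_lit 8241104) (.and 0 7 (.dead0 0))) (.cons [11, 3] 0 0 (.base (nat_lit 8241104) (.and 0 18 (.dead0 0))) (.cons [6, 1] 0 0 (.base (nat_lit 8241104) (.and 0 3 (.dead0 0))) (.cons [4, 6] 0 0 (.base (nat_lit 8241104) (.and 0 11 (.dead0 0))) (.cons [1, 3] 0 0 (.base (nat_lit 8241104) (.and 0 9 (.dead0 0))) (.cons [4, 6, 1] 0 0 (.base (nat_lit 8241104) (.and 0 9 (.dead0 0))) (.cons [1, 6, 3] 0 0 (.base (nat_lit 8241104) (.and 0 11 (.dead0 0)))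 (.cons [6, 1, 3] 0 0 (.base (nat_lit 8241104) (.and 0 3 (.dead0 0))) (.cons [1, 4, 6] 0 0 (.base (nat_lit 8241104) (.and 0 7 (.dead0 0))) .nil)))))))))))))))))))))))))))))))))) .nil))) (.cons [1] 6 0 (.op 4 0 (.focus 0 (.cons [1, 10, 2] 0 0 (.focus 3 (.xor 6 0 (.focus 0 (.xor 7 3 (.focus 0 (.op 4 2 (.xor 9 0 (.focus 0 (.op 7 6 (.xor 11 0 (.focus 0 (.op 4 3 (.xor 13 0 (.focus 0 (.op 7 3 (.xor 15 0 (.focus 0 (.op 4 3 (.xor 17 0 (.focus 0 (.cons [] 0 0 (.base (nat_lit 8241104) (.and 0 11 (.dead0 0))) (.cons [5] 0 0 (.base (nat_lit 8241104) (.and 0 9 (.dead0 0))) (.cons [3] 0 0 (.base (nat_lit 8241104) (.and 0 11 (.dead0 0))) (.cons [6, 1] 0 0 (.base (nat_lit 8241104) (.and 0 18 (.dead0 0))) (.cons [12, 3] 0 0 (.base (nat_lit 8241104) (.and 0 11 (.dead0 0))) (.cons [3, 5] 0 0 (.base (nat_lit 8241104) (.and 0 7 (.dead0 0))) (.cons [6, 3] 0 0 (.base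 (nat_lit 8241104) (.and 0 7 (.dead0 0))) (.cons [1, 3] 0 0 (.base (nat_lit 8241104) (.and 0 3 (.dead0 0))) (.cons [4, 6] 0 0 (.base (nat_lit 8241104) (.and 0 9 (.dead0 0))) (.cons [4, 6, 1] 0 0 (.base (nat_lit 8241104) (.and 0 3 (.dead0 0))) (.cons [1, 4, 6] 0 0 (.base (nat_lit 8241104) (.and 0 7 (.dead0 0))) (.cons [6, 1, 3] 0 0 (.base (nat_lit 8241104) (.and 0 18 (.dead0 0))) (.cons [5, 4, 1] 0 0 (.base (nat_lit 8241104) (.and 0 3 (.dead0 0))) (.cons [1, 6, 3] 0 0 (.base (nat_lit 8241104) (.and 0 9 (.dead0 0))) .nil)))))))))))))))))))))))))))))))))) .nil))) .nil))))))))))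
noncomputable def t7 : Bt.Tr := (.base (nat_lit 8388609) (.focus 0 (.sym [[1], [3]] (.cons [] 1 7 t7_1 .nil))))
noncomputable def t7K : List (List ℕ) := [[33], [21]]
noncomputable def t7F : List (List ℕ) := [[], [1]]
noncomputable def tX_1 : Bt.Tr := (.op 2 0 (.xor 0 1 (.focus 0 (.base (nat_lit 8388606) (.focus 0 (.sym [[1]] (.cons [] 10 0 (.focus 2 (.xor 3 0 (.focus 0 (.op 4 1 (.xor 5 0 (.focus 0 (.op 7 3 (.xor 7 0 (.focus 0 (.op 4 3 (.xor 9 0 (.focus 0 (.op 7 3 (.xor 11 0 (.focus 0 (.op 4 3 (.xor 13 0 (.focus 0 (.op 7 3 (.xor 15 0 (.focus 0 (.op 4 3 (.xor 17 0 (.focus 0 (.op 7 3 (.xor 19 0 (.focus 0 (.op 4 3 (.xor 21 0 (.focus 0 (.op 7 3 (.xor 23 0 (.focus 0 (.base (nat_lit 8388604) (.focus 0 (.cons [] 0 0 (.op 4 0 (.focus 0 (.cons [5, 4, 1] 0 0 (.base (nat_lit 8241104) (.and 0 16 (.dead0 0))) .nil))) (.cons [2] 0 0 (.op 4 0 (.focus 0 (.cons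 [6, 1, 3] 0 0 (.base (nat_lit 8241104) (.and 0 22 (.dead0 0))) .nil))) (.cons [3] 0 0 (.op 4 0 (.focus 0 (.cons [6] 0 0 (.base (nat_lit 8241104) (.and 0 16 (.dead0 0))) .nil))) (.cons [4, 1] 0 0 (.op 4 0 (.focus 0 (.cons [3] 0 0 (.base (nat_lit 8241104) (.and 0 22 (.dead0 0))) .nil))) (.cons [10, 2] 0 0 (.op 4 0 (.focus 0 (.cons [6, 1] 0 0 (.base (nat_lit 8241104) (.and 0 22 (.dead0 0))) .nil))) (.cons [4, 2] 0 0 (.op 4 0 (.focus 0 (.cons [4, 6] 0 0 (.base (nat_lit 8241104) (.and 0 24 (.dead0 0))) .nil))) (.cons [8, 3] 0 0 (.op 4 0 (.focus 0 (.cons [5, 3] 0 0 (.base (nat_lit 8241104) (.and 0 24 (.dead0 0))) .nil))) (.cons [9, 2] 0 0 (.op 4 0 (.focus 0 (.cons [] 0 0 (.base (nat_lit 8241104) (.and 0 16 (.dead0 0))) .nil))) (.cons [7, 2] 0 0 (.op 4 0 (.focus 0 (.cons [5] 0 0 (.base (nat_lit 8241104) (.and 0 22 (.dead0 0))) .nil))) (.cons [1, 3,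 2] 0 0 (.op 4 0 (.focus 0 (.cons [1] 0 0 (.base (nat_lit 8241104) (.and 0 22 (.dead0 0))) .nil))) (.cons [1, 7, 2] 0 0 (.op 4 0 (.focus 0 (.cons [1, 6, 3] 0 0 (.base (nat_lit 8241104) (.and 0 24 (.dead0 0))) .nil))) .nil)))))))))))))))))))))))))))))))))))))))))))))) (.cons [4] 10 0 (.focus 2 (.xor 3 0 (.focus 0 (.op 4 1 (.xor 5 0 (.focus 0 (.op 7 3 (.xor 7 0 (.focus 0 (.op 4 3 (.xor 9 0 (.focus 0 (.op 7 3 (.xor 11 0 (.focus 0 (.op 4 3 (.xor 13 0 (.focus 0 (.op 7 3 (.xor 15 0 (.focus 0 (.op 4 3 (.xor 17 0 (.focus 0 (.op 7 3 (.xor 19 0 (.focus 0 (.op 4 3 (.xor 21 0 (.focus 0 (.op 7 3 (.xor 23 0 (.focus 0 (.base (nat_lit 8388604) (.focus 0 (.cons [3] 0 0 (.op 4 0 (.focus 0 (.cons [3, 5] 0 0 (.base (nat_lit 8241104) (.and 0 16 (.dead0 0))) .nil))) (.cons [1, 3] 0 0 (.op 4 0 (.focus 0 (.cons [3] 0 0 (.base (nat_lit 8241104) (.and 0 24 (.dead0 0)))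 .nil))) (.cons [7, 2] 0 0 (.op 4 0 (.focus 0 (.cons [3] 0 0 (.base (nat_lit 8241104) (.and 0 20 (.dead0 0))) .nil))) (.cons [10, 2] 0 0 (.op 4 0 (.focus 0 (.cons [1, 6, 3] 0 0 (.base (nat_lit 8241104) (.and 0 22 (.dead0 0))) .nil))) (.cons [9, 2] 0 0 (.op 4 0 (.focus 0 (.cons [3, 1] 0 0 (.base (nat_lit 8241104) (.and 0 24 (.dead0 0))) .nil))) (.cons [5, 2] 0 0 (.op 4 0 (.focus 0 (.cons [1, 3] 0 0 (.base (nat_lit 8241104) (.and 0 22 (.dead0 0))) .nil))) (.cons [4, 1] 0 0 (.op 4 0 (.focus 0 (.cons [1, 6, 3] 0 0 (.base (nat_lit 8241104) (.and 0 24 (.dead0 0))) .nil))) (.cons [5, 3, 2] 0 0 (.op 4 0 (.focus 0 (.cons [6, 1] 0 0 (.base (nat_lit 8241104) (.and 0 22 (.dead0 0))) .nil))) (.cons [2, 3, 2] 0 0 (.op 4 0 (.focus 0 (.cons [3] 0 0 (.op 7 2 (.focus 0 (.cons [6, 1] 0 0 (.base (nat_lit 294976) (.and 0 22 (.dead0 0))) .nil))) .nil))) (.cons [1,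 3, 2] 0 0 (.op 4 0 (.focus 0 (.cons [1, 6, 3] 0 0 (.base (nat_lit 8241104) (.and 0 22 (.dead0 0))) .nil))) (.cons [5, 4, 2] 0 0 (.op 4 0 (.focus 0 (.cons [] 0 0 (.base (nat_lit 8241104) (.and 0 22 (.dead0 0))) .nil))) .nil)))))))))))))))))))))))))))))))))))))))))))))) .nil))))))))
noncomputable def tX_2 : Bt.Tr := (.op 2 0 (.xor 0 1 (.focus 0 (.base (nat_lit 8388606) (.focus 0 (.sym [[1]] (.cons [] 10 1 (.focus 2 (.xor 3 0 (.focus 0 (.op 4 1 (.xor 5 0 (.focus 0 (.op 7 3 (.xor 7 0 (.focus 0 (.op 4 3 (.xor 9 0 (.focus 0 (.op 7 3 (.xor 11 0 (.focus 0 (.op 4 3 (.xor 13 0 (.focus 0 (.op 7 3 (.xor 15 0 (.focus 0 (.op 4 3 (.xor 17 0 (.focus 0 (.op 7 3 (.xor 19 0 (.focus 0 (.op 4 3 (.xor 21 0 (.focus 0 (.op 7 3 (.xor 23 0 (.focus 0 (.base (nat_lit 8388604) (.focus 0 (.cons [] 0 1 (.op 4 0 (.focus 0 (.cons [] 0 1 (.op 7 2 (.focus 0 (.cons [] 0 1 (.op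 7 0 (.op 7 0 (.focus 0 (.cons [] 0 1 .triv .nil)))) .nil))) .nil))) (.cons [3] 0 0 (.op 4 0 (.focus 0 (.cons [4, 6, 1] 0 0 (.base (nat_lit 8241104) (.and 0 22 (.dead0 0))) .nil))) (.cons [2] 0 0 (.op 4 0 (.focus 0 (.cons [3, 1] 0 0 (.base (nat_lit 8241104) (.and 0 22 (.dead0 0))) .nil))) (.cons [9, 2] 0 0 (.op 4 0 (.focus 0 (.cons [5, 3] 0 0 (.base (nat_lit 8241104) (.and 0 24 (.dead0 0))) .nil))) (.cons [10, 2] 0 0 (.op 4 0 (.focus 0 (.cons [4, 6, 1] 0 0 (.base (nat_lit 8241104) (.and 0 22 (.dead0 0))) .nil))) (.cons [8, 3] 0 0 (.op 4 0 (.focus 0 (.cons [6, 1, 3] 0 0 (.base (nat_lit 8241104) (.and 0 16 (.dead0 0))) .nil))) (.cons [4, 1] 0 0 (.op 4 0 (.focus 0 (.cons [5] 0 0 (.base (nat_lit 8241104) (.and 0 20 (.dead0 0))) .nil))) (.cons [4, 2] 0 0 (.op 4 0 (.focus 0 (.cons [4, 1] 0 0 (.base (nat_lit 8241104) (.and 0 22 (.dead0 0))) .nil)))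 (.cons [7, 2] 0 0 (.op 4 0 (.focus 0 (.cons [3, 1] 0 0 (.base (nat_lit 8241104) (.and 0 24 (.dead0 0))) .nil))) (.cons [1, 7, 2] 0 0 (.op 4 0 (.focus 0 (.cons [12, 3] 0 0 (.base (nat_lit 8241104) (.and 0 24 (.dead0 0))) .nil))) (.cons [1, 3, 2] 0 0 (.op 4 0 (.focus 0 (.cons [6] 0 0 (.base (nat_lit 8241104) (.and 0 22 (.dead0 0))) .nil))) .nil)))))))))))))))))))))))))))))))))))))))))))))) (.cons [3] 10 0 (.focus 2 (.xor 3 0 (.focus 0 (.op 4 1 (.xor 5 0 (.focus 0 (.op 7 3 (.xor 7 0 (.focus 0 (.op 4 3 (.xor 9 0 (.focus 0 (.op 7 3 (.xor 11 0 (.focus 0 (.op 4 3 (.xor 13 0 (.focus 0 (.op 7 3 (.xor 15 0 (.focus 0 (.op 4 3 (.xor 17 0 (.focus 0 (.op 7 3 (.xor 19 0 (.focus 0 (.op 4 3 (.xor 21 0 (.focus 0 (.op 7 3 (.xor 23 0 (.focus 0 (.base (nat_lit 8388604) (.focus 0 (.cons [3] 0 0 (.op 4 0 (.focus 0 (.cons [12, 3] 0 0 (.base (nat_lit 8241104) (.and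 0 24 (.dead0 0))) .nil))) (.cons [4, 1] 0 0 (.op 4 0 (.focus 0 (.cons [4, 1] 0 0 (.base (nat_lit 8241104) (.and 0 22 (.dead0 0))) .nil))) (.cons [9, 2] 0 0 (.op 4 0 (.focus 0 (.cons [3, 5] 0 0 (.base (nat_lit 8241104) (.and 0 24 (.dead0 0))) .nil))) (.cons [10, 2] 0 0 (.op 4 0 (.focus 0 (.cons [1, 3] 0 0 (.base (nat_lit 8241104) (.and 0 24 (.dead0 0))) .nil))) (.cons [5, 2] 0 0 (.op 4 0 (.focus 0 (.cons [4, 6, 1] 0 0 (.base (nat_lit 8241104) (.and 0 22 (.dead0 0))) .nil))) (.cons [7, 2] 0 0 (.op 4 0 (.focus 0 (.cons [4, 6] 0 0 (.base (nat_lit 8241104) (.and 0 22 (.dead0 0))) .nil))) (.cons [1, 3] 0 0 (.op 4 0 (.focus 0 (.cons [3] 0 0 (.base (nat_lit 8241104) (.and 0 22 (.dead0 0))) .nil))) (.cons [5, 3, 2] 0 0 (.op 4 0 (.focus 0 (.cons [3] 0 0 (.base (nat_lit 8241104) (.and 0 16 (.dead0 0))) .nil))) (.cons [2, 3, 2] 0 0 (.op 4 0 (.focus 0 (.cons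 [1, 6, 3] 0 0 (.base (nat_lit 8241104) (.and 0 22 (.dead0 0))) .nil))) (.cons [5, 4, 2] 0 0 (.op 4 0 (.focus 0 (.cons [6, 1, 3] 0 0 (.base (nat_lit 8241104) (.and 0 16 (.dead0 0))) .nil))) (.cons [1, 3, 2] 0 0 (.op 4 0 (.focus 0 (.cons [1, 6, 3] 0 0 (.base (nat_lit 8241104) (.and 0 16 (.dead0 0))) .nil))) .nil)))))))))))))))))))))))))))))))))))))))))))))) .nil))))))))
noncomputable def tX : Bt.Tr := (.base (nat_lit 8388609) (.focus 0 (.cons [] 0 11 tX_2 (.cons [3] 0 0 tX_1 .nil))))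
noncomputable def tXK : List (List ℕ) := [[2]]
noncomputable def tXF : List (List ℕ) := [[], [1]]
noncomputable def pcT : List (List ℕ × List (List ℕ)) := [([], [[1], [3], [5], [13, 7], [9], [11], [13]]), ([], [[3, 1], [3], [11, 9, 5], [9, 7], [9], [11]]), ([], [[1], [5, 3], [5], [9, 7], [9]]), ([], [[5, 1], [7, 3], [5], [7]]), ([], [[1], [3], [5]]), ([], [[1], [3]]), ([], [[1]]), ([], [])]
noncomputable def pc9 : List (List ℕ × List (List ℕ)) := [([], [[1]]), ([], [])]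
noncomputable def pc8 : List (List ℕ × List (List ℕ)) := [([], [[3, 1], [3]]), ([], [[1]]), ([], [])]
noncomputable def cEz : List Lvl := [⟨(nat_lit 2), [[(nat_lit 1)],
  [(nat_lit 3)],
  [(nat_lit 5)]], (nat_lit 2)⟩,
  ⟨(nat_lit 1), [[(nat_lit 1), (nat_lit 4)],
  [(nat_lit 1), (nat_lit 5)]], (nat_lit 3)⟩,
  ⟨(nat_lit 3), [[(nat_lit 1), (nat_lit 4)]], (nat_lit 1)⟩]
noncomputable def cEb : List Lvl := [⟨(nat_lit 2), [[(nat_lit 1)],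
  [(nat_lit 3)]], (nat_lit 3)⟩,
  ⟨(nat_lit 1), [[(nat_lit 1), (nat_lit 3), (nat_lit 2)],
  [(nat_lit 3), (nat_lit 1), (nat_lit 4)]], (nat_lit 3)⟩,
  ⟨(nat_lit 3), [[(nat_lit 3), (nat_lit 1), (nat_lit 4)]], (nat_lit 2)⟩]
noncomputable def cEc : List Lvl := [⟨(nat_lit 1), [[(nat_lit 1)],
  [(nat_lit 3)]], (nat_lit 4)⟩,
  ⟨(nat_lit 2), [[(nat_lit 4), (nat_lit 2), (nat_lit 2)],
  [(nat_lit 2), (nat_lit 3), (nat_lit 1), (nat_lit 4)]], (nat_lit 1)⟩]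
noncomputable def cG : List Lvl := [⟨(nat_lit 1), [[(nat_lit 1)],
  [(nat_lit 3)],
  [(nat_lit 5)],
  [(nat_lit 7)]], (nat_lit 3)⟩,
  ⟨(nat_lit 2), [[(nat_lit 3)],
  [(nat_lit 2), (nat_lit 5), (nat_lit 1)],
  [(nat_lit 6), (nat_lit 8), (nat_lit 3), (nat_lit 7)]], (nat_lit 4)⟩,
  ⟨(nat_lit 3), [[(nat_lit 6), (nat_lit 2), (nat_lit 3), (nat_lit 5)],
  [(nat_lit 8), (nat_lit 6), (nat_lit 2), (nat_lit 3), (nat_lit 1), (nat_lit 5), (nat_lit 7)],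
  [(nat_lit 2), (nat_lit 4), (nat_lit 2), (nat_lit 6), (nat_lit 3), (nat_lit 7), (nat_lit 1), (nat_lit 3)]], (nat_lit 3)⟩,
  ⟨(nat_lit 4), [[(nat_lit 4), (nat_lit 2), (nat_lit 6), (nat_lit 8), (nat_lit 3), (nat_lit 5), (nat_lit 1), (nat_lit 3), (nat_lit 1)],
  [(nat_lit 6), (nat_lit 8), (nat_lit 2), (nat_lit 4), (nat_lit 8), (nat_lit 3), (nat_lit 5), (nat_lit 7), (nat_lit 1), (nat_lit 5), (nat_lit 1)],
  [(nat_lit 2), (nat_lit 6), (nat_lit 4), (nat_lit 6), (nat_lit 8), (nat_lit 6), (nat_lit 3), (nat_lit 1), (nat_lit 7), (nat_lit 3), (nat_lit 5), (nat_lit 1)]], (nat_lit 2)⟩,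
  ⟨(nat_lit 5), [[(nat_lit 8), (nat_lit 6), (nat_lit 4), (nat_lit 8), (nat_lit 2), (nat_lit 6), (nat_lit 1), (nat_lit 3), (nat_lit 7), (nat_lit 1), (nat_lit 3), (nat_lit 5), (nat_lit 1)]], (nat_lit 2)⟩]
noncomputable def tbC : List (List ℕ) := [[], [], [28], [27], [28, 24], [27, 24], [27, 23], [28, 23], [25], [26], [25, 15], [26, 15], [25, 17], [26,
  17], [2, 15, 1], [26, 27], [27, 6], [2, 13, 1], [34, 23], [28, 5], [], [], [], [], [], [], [], [], [], [], [],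
  [], [34, 13], [34, 13, 9], [], [], [34], [34, 9], [], [], [], [], [], [], [], [], [], [], [33, 13, 9], [33,
  13], [], [], [], [], [33], [33, 9], [], [], [], [], [], [], [], [], [28, 6], [5], [5, 13], [4, 4], [], [], [],
  [], [], [], [], [], [], [], [], [], [6], [6, 13], [27, 5], [21, 4], [], [], [], [], [], [], [], [], [], [],
  [], [], [], [], [], [], [], [], [], [], [], [], [], [], [], [], [], [], [], [], [], [], [], [], [], [], [],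
  [], [], [], [], [], [], [], [], [13], [], [13], [24], [24, 13], [23, 13], [23], [], [], [], [], [], [], [],
  [], [27, 5], [5], [21, 3], [21, 4], [], [], [], [], [], [], [], [], [], [], [], [], [27, 1, 6], [5, 24], [],
  [], [13, 34], [1, 1, 1], [], [], [], [], [], [], [], [], [], [], [27, 23, 2], [5, 23], [], [], [], [], [13,
  33], [2, 29, 1], [], [], [], [], [], [], [], [], [28], [28, 5], [6], [28], [], [], [], [], [], [], [], [],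
  [24, 28], [23, 28], [27, 33, 6], [33, 24, 6], [27], [27], [13, 6], [4, 4], [], [], [], [], [27, 25], [27, 26],
  [23, 27], [34, 27, 2], [], [], [], [], [], [], [], [], [], [], [], [], [], [], [], [], [], [], [], [], [], [],
  [], [], [], [], [], [], [], [], [], [], [], [], [], []]
noncomputable def ctG : List (List (List ℕ)) := [[[29, 11, 9], [29, 11, 9], [], [], []], [[1, 13, 11, 7, 2], [25, 17, 26], [15, 1, 29], [26, 6, 33, 1], [5, 2,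
  17, 5]], [[9], [3, 11, 9, 4], [1, 29, 24, 15, 2], [5, 34, 2, 5, 11], [9, 28, 6]], [[9], [9], [1, 29, 24, 15,
  2], [1, 29, 24, 15, 2], []], [[2, 7, 1], [11, 9, 2, 15, 1], [2, 5, 33, 33], [11, 25, 33, 19, 13], [2, 33, 9,
  26, 2]], [[29, 24], [29, 24], [], [], []], [[5, 5], [5, 5], [9, 28, 6, 29, 6], [9, 28, 6, 29, 6], []], [[9],
  [9], [29, 25, 27], [29, 25, 27], []], [[9], [29, 13, 7], [28, 6], [33, 28, 25, 33], [19, 2, 15, 1]], [[29,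
  24], [29, 24], [9, 28, 6, 29, 6], [9, 28, 6, 29, 6], []], [[5, 5], [5, 5], [], [], []], [[9], [9], [28, 6],
  [28, 6], []], [[29, 11, 9], [29, 11, 9], [1, 29, 24, 15, 2], [1, 29, 24, 15, 2], []], [[29, 24], [29, 24],
  [29, 25, 27], [29, 25, 27], []], [[5, 5], [5, 5], [28, 6], [28, 6], []], [[9], [9], [], [], []]]

end CF.Tr
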